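import Cfsg.Agent.H83.K547.Mono
import Cfsg.Agent.S4623
import Cfsg.Agent.S4627
import Cfsg.Agent.S4628

/-!
# S4547: the Sylow 2-subgroups of `PSL_n(q)`, `n ≥ 4`, `q` odd, need three generators (helper83, task 5023)

* `4 ∣ q + 1`, or `n = 4` : `P / P'` is elementary abelian (S4627, S4628) and there is an elementary abelian subgroup of
  order 8;
* `4 ∣ q - 1`, `n ≥ 6` : the monomial group has odd index and maps onto `Sym(n)`;
* `4 ∣ q - 1`, `n = 5` : the monomial group of `GL_4(q)` has odd index and maps onto `Sym(4) × C₂`.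
-/

set_option autoImplicit false

namespace Cfsg.Agent.H83.K547

open Subgroup Cfsg Cfsg.Agent.H821.K547 Matrix Equiv Cfsg.Agent.H637

universe u

/-! ### Symmetric groups -/

theorem dd_perm {n : ℕ} (hn : 6 ≤ n) : DD 3 (Perm (Fin n)) := by
  have : Fact (Nat.Prime 2) := ⟨Nat.prime_two⟩
  let i0 : Fin n := ⟨0, by omega⟩
  let i1 : Fin n := ⟨1, by omega⟩
  let i2 : Fin n := ⟨2, by omega⟩
  let i3 : Fin n := ⟨3, by omega⟩
  let i4 : Fin n := ⟨4, by omega⟩
  let i5 : Fin n := ⟨5, by omega⟩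
  have hne : ∀ {a b : ℕ} (ha : a < n) (hb : b < n), a ≠ b → (⟨a, ha⟩ : Fin n) ≠ ⟨b, hb⟩ := fun ha hb h h' =>
    h (congrArg Fin.val h')
  have e01 : i0 ≠ i1 := hne _ _ (by norm_num)
  have e02 : i0 ≠ i2 := hne _ _ (by norm_num)
  have e03 : i0 ≠ i3 := hne _ _ (by norm_num)
  have e04 : i0 ≠ i4 := hne _ _ (by norm_num)
  have e05 : i0 ≠ i5 := hne _ _ (by norm_num)
  have e12 : i1 ≠ i2 := hne _ _ (by norm_num)
  have e13 : i1 ≠ i3 := hne _ _ (by norm_num)
  have e14 : i1 ≠ i4 := hne _ _ (by norm_num)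
  have e15 : i1 ≠ i5 := hne _ _ (by norm_num)
  have e23 : i2 ≠ i3 := hne _ _ (by norm_num)
  have e24 : i2 ≠ i4 := hne _ _ (by norm_num)
  have e25 : i2 ≠ i5 := hne _ _ (by norm_num)
  have e34 : i3 ≠ i4 := hne _ _ (by norm_num)
  have e35 : i3 ≠ i5 := hne _ _ (by norm_num)
  have e45 : i4 ≠ i5 := hne _ _ (by norm_num)
  have hsq : ∀ a b : Fin n, swap a b ^ 2 = 1 := fun a b => by rw [pow_two, Equiv.swap_mul_self]
  have hcomm : ∀ {a b c d : Fin n}, a ≠ c → a ≠ d → b ≠ c → b ≠ d → swap a b * swap c d = swap c d * swap a b := by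
    intro a b c d h1 h2 h3 h4
    have : Perm.Disjoint (swap a b) (swap c d) := by
      intro x
      by_cases hx : x = a ∨ x = b
      · right
        rcases hx with rfl | rfl
        · exact swap_apply_of_ne_of_ne h1 h2
        · exact swap_apply_of_ne_of_ne h3 h4
      · left
        push Not at hx
        exact swap_apply_of_ne_of_ne hx.1 hx.2
    exact this.commute
  have hv : ∀ {σ τ : Perm (Fin n)} (x : Fin n), σ x ≠ τ x → σ ≠ τ := fun x h h' => h (by rw [h'])
  obtain ⟨E, hE, hc⟩ := exists_E_three (a := swap i0 i1) (b := swap i2 i3) (c := swap i4 i5) (hsq _ _) (hsq _ _)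
    (hsq _ _) (hcomm e02 e03 e12 e13) (hcomm e04 e05 e14 e15) (hcomm e24 e25 e34 e35)
    (hv i0 (by rw [swap_apply_left]; exact e01.symm))
    (hv i2 (by rw [swap_apply_left]; exact e23.symm))
    (hv i0 (by rw [swap_apply_left, swap_apply_of_ne_of_ne e02 e03]; exact e01.symm))
    (hv i4 (by rw [swap_apply_left]; exact e45.symm))
    (hv i4 (by rw [swap_apply_left, swap_apply_of_ne_of_ne e04.symm e14.symm]; exact e45.symm))
    (hv i4 (by rw [swap_apply_left, swap_apply_of_ne_of_ne e24.symm e34.symm]; exact e45.symm))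
    (hv i4 (by
      rw [swap_apply_left, Perm.mul_apply, swap_apply_of_ne_of_ne e24.symm e34.symm,
        swap_apply_of_ne_of_ne e04.symm e14.symm]
      exact e45.symm))
  have hQ : Sylow 2 (alternatingGroup (Fin n)) := default
  exact dd_three_of_elementary (MonoidHom.id (Perm (Fin n))) Function.surjective_id
    (fun P => (Cfsg.Agent.S4623.result 2 n P hQ).1) hE hc

theorem dd_perm_four : DD 2 (Perm (Fin 4)) := by
  have : Fact (Nat.Prime 2) := ⟨Nat.prime_two⟩
  obtain ⟨E, hE, hc⟩ := exists_E_two (a := (swap 0 1 : Perm (Fin 4))) (b := swap 2 3) (by decide) (by decide)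
    (by decide) (by decide) (by decide) (by decide)
  have hQ : Sylow 2 (alternatingGroup (Fin 4)) := default
  exact dd_two_of_elementary (MonoidHom.id (Perm (Fin 4))) Function.surjective_id
    (fun P => (Cfsg.Agent.S4623.result 2 4 P hQ).1) hE hc

/-! ### Elementary abelian subgroups of `PSL` -/

section Elem

variable {n : ℕ} {F : Type u} [Field F]

/-- signs -/
def sg (x y : Fin n) : Fin n → F := Function.update (1 : Fin n → F) x (-1) * Function.update (1 : Fin n → F) y (-1)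

theorem sg_left {x y : Fin n} (h : x ≠ y) : (sg x y : Fin n → F) x = -1 := by
  simp [sg, Function.update_of_ne h]

theorem sg_right {x y : Fin n} (h : x ≠ y) : (sg x y : Fin n → F) y = -1 := by
  simp [sg, Function.update_of_ne h.symm]

theorem sg_of_ne {x y i : Fin n} (h1 : i ≠ x) (h2 : i ≠ y) : (sg x y : Fin n → F) i = 1 := by
  simp [sg, Function.update_of_ne h1, Function.update_of_ne h2]

theorem sg_mul_self (x y : Fin n) : (sg x y : Fin n → F) * sg x y = 1 := by
  have h : ∀ z : Fin n, Function.update (1 : Fin n → F) z (-1) * Function.update (1 : Fin n → F) z (-1) = 1 := by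
    intro z
    funext i
    by_cases hi : i = z
    · rw [hi]; simp
    · simp [Function.update_of_ne hi]
  calc (sg x y : Fin n → F) * sg x y =
        (Function.update (1 : Fin n → F) x (-1) * Function.update (1 : Fin n → F) x (-1)) *
        (Function.update (1 : Fin n → F) y (-1) * Function.update (1 : Fin n → F) y (-1)) := by unfold sg; ring
    _ = 1 := by rw [h, h, mul_one]

/-- the sign matrices -/
def sd (x y : Fin n) : SpecialLinearGroup (Fin n) F := ⟨diagonal (sg x y), by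
  rw [det_diagonal]
  unfold sg
  simp only [Pi.mul_apply]
  rw [Finset.prod_mul_distrib, Finset.prod_update_of_mem (Finset.mem_univ _),
    Finset.prod_update_of_mem (Finset.mem_univ _)]
  simp⟩

theorem coe_sd (x y : Fin n) : ((sd x y : SpecialLinearGroup (Fin n) F) : Matrix (Fin n) (Fin n) F) =
    diagonal (sg x y) := rfl

theorem sd_sq (x y : Fin n) : (sd x y : SpecialLinearGroup (Fin n) F) ^ 2 = 1 := by
  apply Subtype.ext
  rw [pow_two]
  show diagonal (sg x y : Fin n → F) * diagonal (sg x y) = 1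
  rw [diagonal_mul_diagonal, ← diagonal_one]
  congr 1
  exact sg_mul_self x y

theorem sd_comm (x y z w : Fin n) : (sd x y : SpecialLinearGroup (Fin n) F) * sd z w = sd z w * sd x y := by
  apply Subtype.ext
  show diagonal (sg x y : Fin n → F) * diagonal (sg z w) = diagonal (sg z w) * diagonal (sg x y)
  rw [diagonal_mul_diagonal, diagonal_mul_diagonal]
  congr 1
  funext i
  ring

/-- the class in `PSL` -/
abbrev pm (A : SpecialLinearGroup (Fin n) F) : ProjectiveSpecialLinearGroup (Fin n) F := QuotientGroup.mk A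

theorem pm_ne {A B : SpecialLinearGroup (Fin n) F} (h : ∀ r : F, (A : Matrix (Fin n) (Fin n) F) ≠ r • (B : Matrix (Fin n) (Fin n) F)) :
    pm A ≠ pm B := by
  intro h1
  have h2 : B⁻¹ * A ∈ center (SpecialLinearGroup (Fin n) F) := by
    have := QuotientGroup.eq.1 h1.symm
    exact this
  obtain ⟨r, -, hr⟩ := Matrix.SpecialLinearGroup.mem_center_iff.1 h2
  apply h r
  have h3 : A = B * (B⁻¹ * A) := by group
  have h4 : (A : Matrix (Fin n) (Fin n) F) = (B : Matrix (Fin n) (Fin n) F) * ((B⁻¹ * A : SpecialLinearGroup (Fin n) F) : Matrix (Fin n) (Fin n) F) := by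
    conv_lhs => rw [h3]
    rfl
  rw [h4, ← hr, scalar_apply, ← smul_one_eq_diagonal, Matrix.mul_smul, Matrix.mul_one]

theorem exists_E_PSL (h2 : (2 : F) ≠ 0) [Finite F] (hn : 5 ≤ n) :
    ∃ E : Subgroup (ProjectiveSpecialLinearGroup (Fin n) F), (∀ x ∈ E, x ^ 2 = 1) ∧ 4 < Nat.card E := by
  let i0 : Fin n := ⟨0, by omega⟩
  let i1 : Fin n := ⟨1, by omega⟩
  let i2 : Fin n := ⟨2, by omega⟩
  let i3 : Fin n := ⟨3, by omega⟩
  let i4 : Fin n := ⟨4, by omega⟩
  have hne : ∀ {a b : ℕ} (ha : a < n) (hb : b < n), a ≠ b → (⟨a, ha⟩ : Fin n) ≠ ⟨b, hb⟩ := fun ha hb h h' =>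
    h (congrArg Fin.val h')
  have e01 : i0 ≠ i1 := hne _ _ (by norm_num)
  have e02 : i0 ≠ i2 := hne _ _ (by norm_num)
  have e03 : i0 ≠ i3 := hne _ _ (by norm_num)
  have e04 : i0 ≠ i4 := hne _ _ (by norm_num)
  have e12 : i1 ≠ i2 := hne _ _ (by norm_num)
  have e13 : i1 ≠ i3 := hne _ _ (by norm_num)
  have e14 : i1 ≠ i4 := hne _ _ (by norm_num)
  have e23 : i2 ≠ i3 := hne _ _ (by norm_num)
  have e24 : i2 ≠ i4 := hne _ _ (by norm_num)
  have e34 : i3 ≠ i4 := hne _ _ (by norm_num)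
  have hm : (-1 : F) ≠ 1 := by
    intro h
    apply h2
    have h3 : (1 : F) + 1 = 0 := by nth_rewrite 1 [← h]; ring
    rwa [one_add_one_eq_two] at h3
  -- compare the entries 3 and i
  have key : ∀ {d e : Fin n → F} {A B : SpecialLinearGroup (Fin n) F}, (A : Matrix (Fin n) (Fin n) F) = diagonal d →
      (B : Matrix (Fin n) (Fin n) F) = diagonal e → ∀ i : Fin n, d i3 = 1 → e i3 = 1 → d i ≠ e i → pm A ≠ pm B := by
    intro d e A B hA hB i h3 h4 h5
    apply pm_ne
    intro r hr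
    rw [hA, hB, ← diagonal_smul] at hr
    have h6 := congrFun (diagonal_injective hr) i3
    have h7 := congrFun (diagonal_injective hr) i
    rw [Pi.smul_apply, smul_eq_mul, h3, h4, mul_one] at h6
    rw [Pi.smul_apply, smul_eq_mul, ← h6, one_mul] at h7
    exact h5 h7
  have h1 : ((1 : SpecialLinearGroup (Fin n) F) : Matrix (Fin n) (Fin n) F) = diagonal 1 := (diagonal_one).symm
  have hab : ((sd i0 i1 * sd i0 i2 : SpecialLinearGroup (Fin n) F) : Matrix (Fin n) (Fin n) F) =
      diagonal (sg i0 i1 * sg i0 i2) := by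
    show diagonal _ * diagonal _ = _
    rw [diagonal_mul_diagonal]
    rfl
  have a3 : (sg i0 i1 : Fin n → F) i3 = 1 := sg_of_ne e03.symm e13.symm
  have b3 : (sg i0 i2 : Fin n → F) i3 = 1 := sg_of_ne e03.symm e23.symm
  have c3 : (sg i0 i4 : Fin n → F) i3 = 1 := sg_of_ne e03.symm e34
  have ab3 : (sg i0 i1 * sg i0 i2 : Fin n → F) i3 = 1 := by rw [Pi.mul_apply, a3, b3, mul_one]
  have o3 : (1 : Fin n → F) i3 = 1 := rfl
  refine exists_E_three (a := pm (sd i0 i1)) (b := pm (sd i0 i2)) (c := pm (sd i0 i4)) ?_ ?_ ?_ ?_ ?_ ?_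
    (key (B := 1) (coe_sd _ _) h1 i1 a3 o3 (by rw [sg_right e01]; exact hm))
    (key (B := 1) (coe_sd _ _) h1 i2 b3 o3 (by rw [sg_right e02]; exact hm))
    (key (coe_sd _ _) (coe_sd _ _) i1 a3 b3 (by rw [sg_right e01, sg_of_ne e01.symm e12]; exact hm))
    (key (B := 1) (coe_sd _ _) h1 i4 c3 o3 (by rw [sg_right e04]; exact hm))
    (key (coe_sd _ _) (coe_sd _ _) i4 c3 a3 (by rw [sg_right e04, sg_of_ne e04.symm e14.symm]; exact hm))
    (key (coe_sd _ _) (coe_sd _ _) i4 c3 b3 (by rw [sg_right e04, sg_of_ne e04.symm e24.symm]; exact hm))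
    (key (A := sd i0 i4) (coe_sd _ _) hab i4 c3 ab3 (by
      rw [sg_right e04, Pi.mul_apply, sg_of_ne e04.symm e14.symm, sg_of_ne e04.symm e24.symm, mul_one]; exact hm))
  · rw [← QuotientGroup.mk_pow, sd_sq]; rfl
  · rw [← QuotientGroup.mk_pow, sd_sq]; rfl
  · rw [← QuotientGroup.mk_pow, sd_sq]; rfl
  · rw [← QuotientGroup.mk_mul, ← QuotientGroup.mk_mul, sd_comm]
  · rw [← QuotientGroup.mk_mul, ← QuotientGroup.mk_mul, sd_comm]
  · rw [← QuotientGroup.mk_mul, ← QuotientGroup.mk_mul, sd_comm]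

/-- the permutation `(01)(23)` -/
def pc : SpecialLinearGroup (Fin 4) F := ⟨!![0, 1, 0, 0; 1, 0, 0, 0; 0, 0, 0, 1; 0, 0, 1, 0], by
  have e : Fin.succAbove (1 : Fin 4) 2 = 3 := by decide
  simp [Matrix.det_succ_row_zero, Fin.sum_univ_succ, e]⟩

def pa : SpecialLinearGroup (Fin 4) F := ⟨!![-1, 0, 0, 0; 0, -1, 0, 0; 0, 0, 1, 0; 0, 0, 0, 1], by
  simp [Matrix.det_succ_row_zero, Fin.sum_univ_succ]⟩

def pb : SpecialLinearGroup (Fin 4) F := ⟨!![-1, 0, 0, 0; 0, 1, 0, 0; 0, 0, -1, 0; 0, 0, 0, 1], by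
  simp [Matrix.det_succ_row_zero, Fin.sum_univ_succ]⟩

theorem pm_eq_of_neg {A B : SpecialLinearGroup (Fin 4) F} (h : (A : Matrix (Fin 4) (Fin 4) F) = -(B : Matrix (Fin 4) (Fin 4) F)) :
    pm A = pm B := by
  have h1 : B⁻¹ * A ∈ center (SpecialLinearGroup (Fin 4) F) := by
    rw [Matrix.SpecialLinearGroup.mem_center_iff]
    refine ⟨-1, by rw [Fintype.card_fin]; norm_num, ?_⟩
    have h2 : ((B⁻¹ * A : SpecialLinearGroup (Fin 4) F) : Matrix (Fin 4) (Fin 4) F) =
        ((B⁻¹ : SpecialLinearGroup (Fin 4) F) : Matrix (Fin 4) (Fin 4) F) * (A : Matrix (Fin 4) (Fin 4) F) := rfl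
    have h3 : ((B⁻¹ : SpecialLinearGroup (Fin 4) F) : Matrix (Fin 4) (Fin 4) F) * (B : Matrix (Fin 4) (Fin 4) F) = 1 :=
      congrArg Subtype.val (inv_mul_cancel B)
    rw [h2, h, Matrix.mul_neg, h3, scalar_apply, ← smul_one_eq_diagonal, neg_smul, one_smul]
  exact (QuotientGroup.eq.2 h1).symm

theorem exists_E_PSL_four (h2 : (2 : F) ≠ 0) [Finite F] :
    ∃ E : Subgroup (ProjectiveSpecialLinearGroup (Fin 4) F), (∀ x ∈ E, x ^ 2 = 1) ∧ 4 < Nat.card E := by
  have hm : (-1 : F) ≠ 1 := by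
    intro h
    apply h2
    have h3 : (1 : F) + 1 = 0 := by nth_rewrite 1 [← h]; ring
    rwa [one_add_one_eq_two] at h3
  have h1 : ((1 : SpecialLinearGroup (Fin 4) F) : Matrix (Fin 4) (Fin 4) F) = 1 := rfl
  have ca : ((pa : SpecialLinearGroup (Fin 4) F) : Matrix (Fin 4) (Fin 4) F) =
    !![-1, 0, 0, 0; 0, -1, 0, 0; 0, 0, 1, 0; 0, 0, 0, 1] := rfl
  have cb : ((pb : SpecialLinearGroup (Fin 4) F) : Matrix (Fin 4) (Fin 4) F) =
    !![-1, 0, 0, 0; 0, 1, 0, 0; 0, 0, -1, 0; 0, 0, 0, 1] := rfl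
  have cc : ((pc : SpecialLinearGroup (Fin 4) F) : Matrix (Fin 4) (Fin 4) F) =
    !![0, 1, 0, 0; 1, 0, 0, 0; 0, 0, 0, 1; 0, 0, 1, 0] := rfl
  have cm : ∀ A B : SpecialLinearGroup (Fin 4) F, ((A * B : SpecialLinearGroup (Fin 4) F) : Matrix (Fin 4) (Fin 4) F) =
    (A : Matrix (Fin 4) (Fin 4) F) * (B : Matrix (Fin 4) (Fin 4) F) := fun _ _ => rfl
  -- two different entries
  have key : ∀ {A B : SpecialLinearGroup (Fin 4) F} (i j : Fin 4) (a : F),
      (A : Matrix (Fin 4) (Fin 4) F) i j = a → (B : Matrix (Fin 4) (Fin 4) F) i j = 0 → a ≠ 0 → pm A ≠ pm B := by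
    intro A B i j a hA hB ha
    apply pm_ne
    intro r hr
    have h3 := congrFun (congrFun hr i) j
    rw [Matrix.smul_apply, hA, hB, smul_zero] at h3
    exact ha h3
  have key2 : ∀ {A B : SpecialLinearGroup (Fin 4) F} (i : Fin 4),
      (A : Matrix (Fin 4) (Fin 4) F) 3 3 = 1 → (B : Matrix (Fin 4) (Fin 4) F) 3 3 = 1 →
      (A : Matrix (Fin 4) (Fin 4) F) i i ≠ (B : Matrix (Fin 4) (Fin 4) F) i i → pm A ≠ pm B := by
    intro A B i hA hB hne
    apply pm_ne
    intro r hr
    have h3 := congrFun (congrFun hr 3) 3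
    rw [Matrix.smul_apply, hA, hB, smul_eq_mul, mul_one] at h3
    have h4 := congrFun (congrFun hr i) i
    rw [Matrix.smul_apply, ← h3, one_smul] at h4
    exact hne h4
  refine exists_E_three (a := pm pa) (b := pm pb) (c := pm pc) ?_ ?_ ?_ ?_ ?_ ?_
    (key2 (B := 1) 1 (by rw [ca]; rfl) (by rw [h1]; rfl) (by rw [ca, h1]; exact hm))
    (key2 (B := 1) 2 (by rw [cb]; rfl) (by rw [h1]; rfl) (by rw [cb, h1]; exact hm))
    (key2 1 (by rw [ca]; rfl) (by rw [cb]; rfl) (by rw [ca, cb]; exact hm))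
    (key (B := 1) 0 1 1 (by rw [cc]; rfl) (by rw [h1]; rfl) one_ne_zero)
    (key 0 1 1 (by rw [cc]; rfl) (by rw [ca]; rfl) one_ne_zero)
    (key 0 1 1 (by rw [cc]; rfl) (by rw [cb]; rfl) one_ne_zero)
    (key (B := pa * pb) 0 1 1 (by rw [cc]; rfl) (by
      rw [cm, ca, cb]; simp [Matrix.mul_apply, Fin.sum_univ_succ]) one_ne_zero)
  · rw [← QuotientGroup.mk_pow]
    have h3 : (pa : SpecialLinearGroup (Fin 4) F) ^ 2 = 1 := by
      apply Subtype.ext
      rw [pow_two]
      show (pa : SpecialLinearGroup (Fin 4) F).1 * (pa : SpecialLinearGroup (Fin 4) F).1 = 1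
      rw [ca]
      ext i j
      fin_cases i <;> fin_cases j <;> simp [Matrix.mul_apply, Fin.sum_univ_succ]
    rw [h3]; rfl
  · rw [← QuotientGroup.mk_pow]
    have h3 : (pb : SpecialLinearGroup (Fin 4) F) ^ 2 = 1 := by
      apply Subtype.ext
      rw [pow_two]
      show (pb : SpecialLinearGroup (Fin 4) F).1 * (pb : SpecialLinearGroup (Fin 4) F).1 = 1
      rw [cb]
      ext i j
      fin_cases i <;> fin_cases j <;> simp [Matrix.mul_apply, Fin.sum_univ_succ]
    rw [h3]; rfl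
  · rw [← QuotientGroup.mk_pow]
    have h3 : (pc : SpecialLinearGroup (Fin 4) F) ^ 2 = 1 := by
      apply Subtype.ext
      rw [pow_two]
      show (pc : SpecialLinearGroup (Fin 4) F).1 * (pc : SpecialLinearGroup (Fin 4) F).1 = 1
      rw [cc]
      ext i j
      fin_cases i <;> fin_cases j <;> simp [Matrix.mul_apply, Fin.sum_univ_succ]
    rw [h3]; rfl
  · rw [← QuotientGroup.mk_mul, ← QuotientGroup.mk_mul]
    congr 1
    apply Subtype.ext
    rw [cm, cm, ca, cb]
    ext i j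
    fin_cases i <;> fin_cases j <;> simp [Matrix.mul_apply, Fin.sum_univ_succ]
  · rw [← QuotientGroup.mk_mul, ← QuotientGroup.mk_mul]
    congr 1
    apply Subtype.ext
    rw [cm, cm, ca, cc]
    ext i j
    fin_cases i <;> fin_cases j <;> simp [Matrix.mul_apply, Fin.sum_univ_succ]
  · rw [← QuotientGroup.mk_mul, ← QuotientGroup.mk_mul]
    apply pm_eq_of_neg
    rw [cm, cm, cb, cc]
    ext i j
    fin_cases i <;> fin_cases j <;> simp [Matrix.mul_apply, Fin.sum_univ_succ]

end Elem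

/-! ### `4 ∣ q + 1`, and `n = 4` -/

section CaseOne

variable {F : Type u} [Field F] [Fintype F]

theorem dd_of_sq {n : ℕ} (hn : 4 ≤ n) (h2 : (2 : F) ≠ 0)
    (h : ∀ (P : Sylow 2 (SpecialLinearGroup (Fin n) F)) (x : P), x ^ 2 ∈ commutator P) :
    DD 3 (ProjectiveSpecialLinearGroup (Fin n) F) := by
  have hE : ∃ E : Subgroup (ProjectiveSpecialLinearGroup (Fin n) F), (∀ x ∈ E, x ^ 2 = 1) ∧ 4 < Nat.card E := by
    rcases Nat.lt_or_ge n 5 with h5 | h5
    · obtain rfl : n = 4 := by omega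
      exact exists_E_PSL_four h2
    · exact exists_E_PSL h2 h5
  obtain ⟨E, hE1, hE2⟩ := hE
  exact dd_three_of_elementary (QuotientGroup.mk' _) (QuotientGroup.mk'_surjective _) h hE1 hE2

theorem dd_add {n : ℕ} (hn : 4 ≤ n) (h2 : (2 : F) ≠ 0) (hodd : Odd (Fintype.card F)) (hq : 4 ∣ Fintype.card F + 1) :
    DD 3 (ProjectiveSpecialLinearGroup (Fin n) F) := by
  apply dd_of_sq hn h2
  rcases Nat.even_or_odd' n with ⟨m, rfl | rfl⟩
  · exact fun P => Cfsg.Agent.S4627.result hodd m (by omega) (Or.inl hq) P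
  · exact fun P => Cfsg.Agent.S4628.result hodd hq m (by omega) P

theorem dd_four (h2 : (2 : F) ≠ 0) (hodd : Odd (Fintype.card F)) (hq : 4 ∣ Fintype.card F - 1) :
    DD 3 (ProjectiveSpecialLinearGroup (Fin 4) F) := by
  apply dd_of_sq le_rfl h2
  exact fun P => Cfsg.Agent.S4627.result (F := F) hodd 2 (by norm_num) (Or.inr ⟨hq, 1, by norm_num⟩) P

/-! ### `4 ∣ q - 1`, `n ≥ 6` -/

theorem dd_sub_six {n : ℕ} (hn : 6 ≤ n) (hq : 4 ∣ Fintype.card F - 1) :
    DD 3 (ProjectiveSpecialLinearGroup (Fin n) F) := by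
  have : NeZero n := ⟨by omega⟩
  have h1 : 1 < Fintype.card F := Fintype.one_lt_card
  let dm : XM n F →* Fˣ := (Matrix.GeneralLinearGroup.det : GL (Fin n) F →* Fˣ).comp (mono n F)
  let φ : dm.ker →* GL (Fin n) F := (mono n F).comp dm.ker.subtype
  have hφ : ∀ x, Matrix.GeneralLinearGroup.det (φ x) = 1 := fun x => x.2
  have hφi : Function.Injective φ := mono_injective.comp dm.ker.subtype_injective
  have hdm : Function.Surjective dm := by
    intro u
    refine ⟨⟨Function.update 1 0 u, 1⟩, ?_⟩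
    show Matrix.GeneralLinearGroup.det (mono n F _) = u
    rw [det_mono, Finset.prod_update_of_mem (Finset.mem_univ _)]
    simp
  have hcard : Nat.card dm.ker * (Fintype.card F - 1) = Nat.card (XM n F) := by
    have h2 := dm.ker.card_mul_index
    rwa [Subgroup.index_ker, MonoidHom.range_eq_top.2 hdm, Subgroup.card_top, Nat.card_units,
      Nat.card_eq_fintype_card (α := F)] at h2
  have hv : padicValNat 2 (Nat.card dm.ker) = padicValNat 2 (Nat.card (SpecialLinearGroup (Fin n) F)) := by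
    have h3 := v_card_SL (n := n) (F := F)
    have h4 := v_card_XM (n := n) hq
    rw [← hcard, padicValNat.mul Nat.card_pos.ne' (by omega)] at h4
    omega
  refine dd_of_hom (toPSL φ hφ) (index_toPSL (index_of_v (toSL_injective hφ hφi) hv))
    (SemidirectProduct.rightHom.comp dm.ker.subtype) ?_ ?_ (dd_perm hn)
  · intro σ
    -- adjust the determinant
    refine ⟨⟨⟨Function.update 1 0 (Units.map (Int.castRingHom F).toMonoidHom (Perm.sign σ))⁻¹, σ⟩, ?_⟩, rfl⟩
    rw [MonoidHom.mem_ker]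
    show Matrix.GeneralLinearGroup.det (mono n F _) = 1
    rw [det_mono, Finset.prod_update_of_mem (Finset.mem_univ _)]
    simp
  · intro x hx
    obtain ⟨r, hr⟩ := toPSL_eq_one hx
    exact (mono_scalar hr).1

/-! ### `4 ∣ q - 1`, `n = 5` -/

/-- the inverse determinant -/
def idet : GL (Fin 4) F →* Fˣ := (invMonoidHom : Fˣ →* Fˣ).comp Matrix.GeneralLinearGroup.det

/-- `GL_4 → GL_{4+1}`, `A ↦ (A, det A ^ -1)` -/
def emb0 : GL (Fin 4) F →* GL (Fin 4 ⊕ Fin 1) F :=
  (blk (Fin 4) (Fin 1) F).comp ((MonoidHom.id _).prod ((dgGL 1 F).comp (MonoidHom.pi fun _ : Fin 1 => idet)))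

theorem det_emb0 (A : GL (Fin 4) F) : Matrix.GeneralLinearGroup.det (emb0 A) = 1 := by
  show Matrix.GeneralLinearGroup.det (blk (Fin 4) (Fin 1) F (A, dgGL 1 F fun _ => idet A)) = 1
  rw [det_blk]
  have h1 : Matrix.GeneralLinearGroup.det (dgGL 1 F fun _ => idet A) = idet A := by
    apply Units.ext
    show (diagonal fun _ : Fin 1 => ((idet A : Fˣ) : F)).det = (idet A : Fˣ)
    rw [det_diagonal]
    simp
  show Matrix.GeneralLinearGroup.det A * Matrix.GeneralLinearGroup.det (dgGL 1 F fun _ => idet A) = 1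
  rw [h1]
  exact mul_inv_cancel _

theorem emb0_injective : Function.Injective (emb0 (F := F)) := by
  intro A B h
  exact congrArg Prod.fst (blk_injective h)

/-- five letters -/
def e5 : Fin 4 ⊕ Fin 1 ≃ Fin 5 := finSumFinEquiv

/-- `GL_4 → GL_5` -/
def emb : GL (Fin 4) F →* GL (Fin 5) F :=
  (LieClassical.OmegaReindex.glReindex F e5).toMonoidHom.comp emb0

theorem det_emb (A : GL (Fin 4) F) : Matrix.GeneralLinearGroup.det (emb A) = 1 := by
  rw [← det_emb0 A]
  exact DFunLike.congr_fun (det_glReindex (F := F) e5) (emb0 A)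

theorem emb_injective : Function.Injective (emb (F := F)) :=
  (LieClassical.OmegaReindex.glReindex F e5).injective.comp emb0_injective

theorem emb_scalar {A : GL (Fin 4) F} {r : F} (h : (emb A : Matrix (Fin 5) (Fin 5) F) = scalar (Fin 5) r) :
    (A : Matrix (Fin 4) (Fin 4) F) = scalar (Fin 4) r := by
  ext i j
  have h1 : (emb A : Matrix (Fin 5) (Fin 5) F) (e5 (Sum.inl i)) (e5 (Sum.inl j)) =
      (A : Matrix (Fin 4) (Fin 4) F) i j := by
    show ((emb0 A : Matrix (Fin 4 ⊕ Fin 1) (Fin 4 ⊕ Fin 1) F).submatrix e5.symm e5.symm)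
      (e5 (Sum.inl i)) (e5 (Sum.inl j)) = _
    rw [submatrix_apply, Equiv.symm_apply_apply, Equiv.symm_apply_apply]
    rfl
  rw [← h1, h, scalar_apply, scalar_apply, diagonal_apply, diagonal_apply]
  have h2 : (e5 (Sum.inl i) = e5 (Sum.inl j)) ↔ i = j := by
    rw [e5.injective.eq_iff, Sum.inl.injEq]
  by_cases h3 : i = j
  · rw [if_pos (h2.2 h3), if_pos h3]
  · rw [if_neg (fun h4 => h3 (h2.1 h4)), if_neg h3]

variable (F) in
/-- the quadratic character -/
noncomputable def qc [DecidableEq F] : Fˣ →* ℤˣ := (quadraticChar F).toUnitHom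

variable (F) in
/-- `Sym(4) × C₂` -/
noncomputable def fy [DecidableEq F] : XM 4 F →* Perm (Fin 4) × ℤˣ :=
  SemidirectProduct.rightHom.prod (SemidirectProduct.lift
    ((qc F).comp { toFun := fun t : Fin 4 → Fˣ => ∏ i, t i
                   map_one' := Finset.prod_const_one
                   map_mul' := fun _ _ => Finset.prod_mul_distrib }) 1 (by
      intro σ
      refine MonoidHom.ext fun t => ?_
      show qc F (∏ i, t (σ⁻¹ i)) = 1 * qc F (∏ i, t i) * 1⁻¹
      rw [Equiv.prod_comp, one_mul, inv_one, mul_one]))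

theorem fy_apply [DecidableEq F] (x : XM 4 F) : fy F x = (x.right, qc F (∏ i, x.left i)) := by
  refine Prod.ext rfl ?_
  show qc F (∏ i, x.left i) * 1 = _
  rw [mul_one]

theorem dd_sub_five (h2 : (2 : F) ≠ 0) (hq : 4 ∣ Fintype.card F - 1) :
    DD 3 (ProjectiveSpecialLinearGroup (Fin 5) F) := by
  classical
  have hchar : ringChar F ≠ 2 := by
    intro h
    apply h2
    have := ringChar.Nat.cast_ringChar (R := F)
    rw [h] at this
    exact_mod_cast this
  let φ : XM 4 F →* GL (Fin 5) F := emb.comp (mono 4 F)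
  have hφ : ∀ x, Matrix.GeneralLinearGroup.det (φ x) = 1 := fun x => det_emb _
  have hφi : Function.Injective φ := emb_injective.comp mono_injective
  have hv : padicValNat 2 (Nat.card (XM 4 F)) = padicValNat 2 (Nat.card (SpecialLinearGroup (Fin 5) F)) := by
    have h3 := v_card_SL (n := 5) (F := F)
    have h4 := v_card_XM (n := 4) hq
    have h5 : gv F 5 = gv F 4 + padicValNat 2 (Fintype.card F - 1) := gv_two_mul_add_one (odd_card hq) 2
    omega
  have hY : DD (2 + 1) (Perm (Fin 4) × ℤˣ) := dd_prod dd_perm_four (C := ℤˣ) (fun c => by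
    rcases Int.units_eq_one_or c with rfl | rfl <;> rfl) (m := 1) (by
      rw [Nat.card_eq_fintype_card]; decide)
  refine dd_of_hom (toPSL φ hφ) (index_toPSL (index_of_v (toSL_injective hφ hφi) hv)) (fy F) ?_ ?_ hY
  · rintro ⟨σ, ε⟩
    obtain ⟨u, hu⟩ : ∃ u, qc F u = ε := by
      rcases Int.units_eq_one_or ε with rfl | rfl
      · exact ⟨1, map_one _⟩
      · obtain ⟨a, ha⟩ := quadraticChar_exists_neg_one' hchar
        refine ⟨a, Units.ext ?_⟩
        show quadraticChar F a = -1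
        exact ha
    refine ⟨⟨Function.update 1 0 u, σ⟩, ?_⟩
    rw [fy_apply, Finset.prod_update_of_mem (Finset.mem_univ _)]
    simp [hu]
  · intro x hx
    obtain ⟨r, hr⟩ := toPSL_eq_one hx
    obtain ⟨h3, h4⟩ := mono_scalar (emb_scalar hr)
    rw [fy_apply, h3]
    have h5 : ∀ i, x.left i = x.left 0 := fun i => Units.ext ((h4 i).trans (h4 0).symm)
    have h6 : ∏ i, x.left i = (x.left 0) ^ 4 := by
      rw [Finset.prod_congr rfl (fun i _ => h5 i), Finset.prod_const, Finset.card_univ, Fintype.card_fin]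
    rw [h6, map_pow]
    refine Prod.ext rfl ?_
    show qc F (x.left 0) ^ 4 = 1
    rcases Int.units_eq_one_or (qc F (x.left 0)) with h7 | h7 <;> rw [h7] <;> rfl

end CaseOne

/-- **K547-QO-PSL**: the Sylow 2-subgroups of `PSL_n(q)`, `n ≥ 4`, `q` odd, need at least three generators -/
theorem d3_psl {n : ℕ} (hn : 4 ≤ n) (F : Type u) [Field F] [Finite F] (h2 : (2 : F) ≠ 0) :
    D3 (ProjectiveSpecialLinearGroup (Fin n) F) := by
  let _ : Fintype F := Fintype.ofFinite F
  have hodd : Odd (Fintype.card F) := by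
    have hchar : ringChar F ≠ 2 := by
      intro h
      apply h2
      have := ringChar.Nat.cast_ringChar (R := F)
      rw [h] at this
      exact_mod_cast this
    exact Nat.odd_iff.2 (FiniteField.odd_card_of_char_ne_two hchar)
  have h4 : 4 ∣ Fintype.card F + 1 ∨ 4 ∣ Fintype.card F - 1 := by
    obtain ⟨k, hk⟩ := hodd
    omega
  rcases h4 with h4 | h4
  · exact dd_add hn h2 hodd h4
  · rcases Nat.lt_or_ge n 6 with h6 | h6
    · obtain rfl | rfl : n = 4 ∨ n = 5 := by omega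
      · exact dd_four h2 hodd h4
      · exact dd_sub_five h2 h4
    · exact dd_sub_six h6 h4

end Cfsg.Agent.H83.K547
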