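import Cfsg.Agent.H83.K547.Tool
import Cfsg.Agent.H637.GLPart

/-!
# S4547: monomial subgroups of `SL_n(q)`, `q ≡ 1` mod 4 (helper83)

* `XM n F = (Fin n → Fˣ) ⋊ Perm (Fin n)`, `mono : XM n F →* GL (Fin n) F`; `v_card_XM` : same 2-part as `GL_n(q)`;
* `index_SL` : a homomorphism `ψ : X →* SL_n(q)` with `card`... .
-/

set_option autoImplicit false

namespace Cfsg.Agent.H83.K547

open Subgroup Cfsg Cfsg.Agent.H821.K547 Matrix Equiv Cfsg.Agent.H637

universe u

section Mono

variable (n : ℕ) (F : Type u) [Field F]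

/-- permutations acting on diagonal matrices -/
def pact : Perm (Fin n) →* MulAut (Fin n → Fˣ) where
  toFun σ :=
    { toFun := fun t i => t (σ⁻¹ i)
      invFun := fun t i => t (σ i)
      left_inv := fun t => by funext i; simp
      right_inv := fun t => by funext i; simp
      map_mul' := fun _ _ => rfl }
  map_one' := rfl
  map_mul' σ τ := by
    ext t i
    show ((t ((σ * τ)⁻¹ i) : Fˣ) : F) = t (τ⁻¹ (σ⁻¹ i))
    rw [_root_.mul_inv_rev, Perm.mul_apply]

/-- the monomial group -/
abbrev XM := (Fin n → Fˣ) ⋊[pact n F] Perm (Fin n)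

/-- the diagonal matrices -/
def dgGL : (Fin n → Fˣ) →* GL (Fin n) F where
  toFun t :=
    { val := diagonal fun i => (t i : F)
      inv := diagonal fun i => ((t i)⁻¹ : Fˣ)
      val_inv := by rw [diagonal_mul_diagonal, ← diagonal_one]; congr 1; funext i; simp
      inv_val := by rw [diagonal_mul_diagonal, ← diagonal_one]; congr 1; funext i; simp }
  map_one' := by
    apply Units.ext
    show diagonal (fun i => ((1 : Fˣ) : F)) = 1
    rw [← diagonal_one]
    rfl
  map_mul' s t := by
    apply Units.ext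
    show diagonal (fun i => ((s i * t i : Fˣ) : F)) = diagonal (fun i => (s i : F)) * diagonal (fun i => (t i : F))
    rw [diagonal_mul_diagonal]
    rfl

variable {n F}

theorem coe_dgGL (t : Fin n → Fˣ) : (dgGL n F t : Matrix (Fin n) (Fin n) F) = diagonal fun i => (t i : F) := rfl

theorem permGL_apply (σ : Perm (Fin n)) (i j : Fin n) :
    (permGL (Fin n) F σ : Matrix (Fin n) (Fin n) F) i j = if σ⁻¹ i = j then 1 else 0 := by
  rw [coe_permGL]
  show PEquiv.toMatrix (Equiv.toPEquiv (σ⁻¹)) i j = _
  rw [PEquiv.toMatrix_apply]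
  simp [Equiv.toPEquiv_apply, eq_comm]

theorem mono_compat (σ : Perm (Fin n)) : (dgGL n F).comp (pact n F σ).toMonoidHom =
    (MulAut.conj (permGL (Fin n) F σ)).toMonoidHom.comp (dgGL n F) := by
  ext t : 1
  show dgGL n F (pact n F σ t) = permGL (Fin n) F σ * dgGL n F t * (permGL (Fin n) F σ)⁻¹
  rw [eq_mul_inv_iff_mul_eq]
  apply Units.ext
  show (dgGL n F (pact n F σ t) : Matrix (Fin n) (Fin n) F) * (permGL (Fin n) F σ : Matrix (Fin n) (Fin n) F) =
    (permGL (Fin n) F σ : Matrix (Fin n) (Fin n) F) * (dgGL n F t : Matrix (Fin n) (Fin n) F)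
  rw [coe_dgGL, coe_dgGL]
  ext i j
  rw [diagonal_mul, mul_diagonal, permGL_apply]
  show (t (σ⁻¹ i) : F) * (if σ⁻¹ i = j then 1 else 0) = (if σ⁻¹ i = j then 1 else 0) * (t j : F)
  by_cases h : σ⁻¹ i = j
  · rw [if_pos h, h, mul_one, one_mul]
  · rw [if_neg h, mul_zero, zero_mul]

variable (n F) in
/-- monomial matrices -/
def mono : XM n F →* GL (Fin n) F := SemidirectProduct.lift (dgGL n F) (permGL (Fin n) F) mono_compat

theorem mono_eq (x : XM n F) : mono n F x = dgGL n F x.left * permGL (Fin n) F x.right := rfl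

theorem mono_apply (x : XM n F) (i j : Fin n) :
    (mono n F x : Matrix (Fin n) (Fin n) F) i j = if x.right⁻¹ i = j then (x.left i : F) else 0 := by
  rw [mono_eq, Units.val_mul, coe_dgGL, diagonal_mul, permGL_apply]
  by_cases h : x.right⁻¹ i = j
  · rw [if_pos h, if_pos h, mul_one]
  · rw [if_neg h, if_neg h, mul_zero]

theorem mono_scalar {x : XM n F} {r : F} (h : (mono n F x : Matrix (Fin n) (Fin n) F) = scalar (Fin n) r) :
    x.right = 1 ∧ ∀ i, (x.left i : F) = r := by
  have key : ∀ i j, (if x.right⁻¹ i = j then (x.left i : F) else 0) = if i = j then r else 0 := by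
    intro i j
    rw [← mono_apply, h, scalar_apply, diagonal_apply]
  have h1 : x.right = 1 := by
    rw [← inv_eq_one]
    ext i
    have h2 := key i (x.right⁻¹ i)
    rw [if_pos rfl] at h2
    by_cases h3 : i = x.right⁻¹ i
    · exact congrArg Fin.val h3.symm
    · rw [if_neg h3] at h2
      exact absurd h2 (Units.ne_zero _)
  refine ⟨h1, fun i => ?_⟩
  have h2 := key i i
  rw [h1, if_pos (by rfl), if_pos rfl] at h2
  exact h2

theorem mono_injective : Function.Injective (mono n F) := by
  rw [injective_iff_map_eq_one]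
  intro x hx
  have h1 : (mono n F x : Matrix (Fin n) (Fin n) F) = scalar (Fin n) (1 : F) := by
    rw [hx, map_one]; rfl
  obtain ⟨h2, h3⟩ := mono_scalar h1
  refine SemidirectProduct.ext ?_ h2
  funext i
  exact Units.ext (h3 i)

theorem det_mono (x : XM n F) : Matrix.GeneralLinearGroup.det (mono n F x) =
    (∏ i, x.left i) * Units.map (Int.castRingHom F).toMonoidHom (Perm.sign x.right) := by
  rw [mono_eq, map_mul, det_permGL]
  congr 1
  apply Units.ext
  show (diagonal fun i => (x.left i : F)).det = ((∏ i, x.left i : Fˣ) : F)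
  rw [det_diagonal, Units.coe_prod]

variable [Fintype F]

theorem v_add_one (hF : 4 ∣ Fintype.card F - 1) : padicValNat 2 (Fintype.card F + 1) = 1 := by
  have h1 : 1 < Fintype.card F := Fintype.one_lt_card
  obtain ⟨k, hk⟩ := hF
  have h2 : Fintype.card F + 1 = 2 * (2 * k + 1) := by omega
  rw [h2, padicValNat.mul (by norm_num) (by omega), padicValNat.self (by norm_num),
    padicValNat.eq_zero_of_not_dvd (by omega)]

theorem odd_card (hF : 4 ∣ Fintype.card F - 1) : Odd (Fintype.card F) := by
  have h1 : 1 < Fintype.card F := Fintype.one_lt_card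
  obtain ⟨k, hk⟩ := hF
  exact ⟨2 * k, by omega⟩

theorem v_pow (hF : 4 ∣ Fintype.card F - 1) (m : ℕ) : padicValNat 2 (Fintype.card F ^ (m + 1) - 1) =
    padicValNat 2 (Fintype.card F - 1) + padicValNat 2 (m + 1) := by
  have h1 : 1 < Fintype.card F := Fintype.one_lt_card
  have hodd := odd_card hF
  rcases Nat.even_or_odd' m with ⟨j, rfl | rfl⟩
  · rw [val_pow_odd _ hodd h1, padicValNat.eq_zero_of_not_dvd (n := 2 * j + 1) (by omega), add_zero]
  · have e : 2 * j + 1 + 1 = 2 * (j + 1) := by ring
    rw [e, val_pow_even _ hodd h1 _ (Nat.succ_ne_zero j), padicValNat.mul (by norm_num) (Nat.succ_ne_zero j),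
      padicValNat.self (by norm_num)]
    have h2 : Fintype.card F ^ 2 - 1 = (Fintype.card F - 1) * (Fintype.card F + 1) := by
      obtain ⟨k, hk⟩ : ∃ k, Fintype.card F = k + 1 := ⟨Fintype.card F - 1, by omega⟩
      rw [hk, Nat.add_sub_cancel]
      have : (k + 1) ^ 2 = k * (k + 1 + 1) + 1 := by ring
      omega
    rw [h2, padicValNat.mul (by omega) (by omega), v_add_one hF]
    ring

theorem gv_eq (hF : 4 ∣ Fintype.card F - 1) (m : ℕ) :
    gv F m = m * padicValNat 2 (Fintype.card F - 1) + padicValNat 2 m.factorial := by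
  induction m with
  | zero => simp [gv_zero]
  | succ m ih =>
    rw [gv_succ (odd_card hF), ih, v_pow hF, Nat.factorial_succ,
      padicValNat.mul (Nat.succ_ne_zero m) (Nat.factorial_ne_zero m)]
    ring

theorem card_XM : Nat.card (XM n F) = (Fintype.card F - 1) ^ n * n.factorial := by
  rw [SemidirectProduct.card, Nat.card_fun, Nat.card_fin, Nat.card_perm, Nat.card_fin, Nat.card_units,
    Nat.card_eq_fintype_card]

instance : Finite (XM n F) := Nat.finite_of_card_ne_zero (by
  rw [card_XM]
  have h1 : 1 < Fintype.card F := Fintype.one_lt_card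
  exact mul_ne_zero (pow_ne_zero _ (by omega)) (Nat.factorial_ne_zero n))

theorem v_card_XM (hF : 4 ∣ Fintype.card F - 1) : padicValNat 2 (Nat.card (XM n F)) = gv F n := by
  have h1 : 1 < Fintype.card F := Fintype.one_lt_card
  have h2 : padicValNat 2 ((Fintype.card F - 1) ^ n) = n * padicValNat 2 (Fintype.card F - 1) :=
    padicValNat.pow _ _
  rw [card_XM, gv_eq hF, padicValNat.mul (pow_ne_zero _ (by omega)) (Nat.factorial_ne_zero n), h2]

end Mono

/-! ### `SL` and `PSL` -/

section SL

variable {n : ℕ} {F : Type u} [Field F]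

/-- a homomorphism into `GL` with determinants 1 -/
def toSL {X : Type*} [Group X] (φ : X →* GL (Fin n) F) (h : ∀ x, Matrix.GeneralLinearGroup.det (φ x) = 1) :
    X →* SpecialLinearGroup (Fin n) F where
  toFun x := ⟨(φ x : Matrix (Fin n) (Fin n) F), congrArg Units.val (h x)⟩
  map_one' := Subtype.ext (by show ((φ 1 : GL (Fin n) F) : Matrix (Fin n) (Fin n) F) = 1; rw [map_one]; rfl)
  map_mul' x y := Subtype.ext (by
    show ((φ (x * y) : GL (Fin n) F) : Matrix (Fin n) (Fin n) F) = (φ x : Matrix (Fin n) (Fin n) F) * φ y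
    rw [map_mul]; rfl)

theorem coe_toSL {X : Type*} [Group X] (φ : X →* GL (Fin n) F) (h : ∀ x, Matrix.GeneralLinearGroup.det (φ x) = 1)
    (x : X) : (toSL φ h x : Matrix (Fin n) (Fin n) F) = φ x := rfl

theorem toSL_injective {X : Type*} [Group X] {φ : X →* GL (Fin n) F}
    (h : ∀ x, Matrix.GeneralLinearGroup.det (φ x) = 1) (hφ : Function.Injective φ) :
    Function.Injective (toSL φ h) := fun _ _ hab => hφ (Units.ext (congrArg Subtype.val hab))

/-- the homomorphism into `PSL` -/
def toPSL {X : Type*} [Group X] (φ : X →* GL (Fin n) F) (h : ∀ x, Matrix.GeneralLinearGroup.det (φ x) = 1) :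
    X →* ProjectiveSpecialLinearGroup (Fin n) F := (QuotientGroup.mk' _).comp (toSL φ h)

theorem toPSL_eq_one {X : Type*} [Group X] {φ : X →* GL (Fin n) F}
    {h : ∀ x, Matrix.GeneralLinearGroup.det (φ x) = 1} {x : X} (hx : toPSL φ h x = 1) :
    ∃ r : F, (φ x : Matrix (Fin n) (Fin n) F) = scalar (Fin n) r := by
  have h1 : toSL φ h x ∈ center (SpecialLinearGroup (Fin n) F) := (QuotientGroup.eq_one_iff _).1 hx
  obtain ⟨r, -, hr⟩ := Matrix.SpecialLinearGroup.mem_center_iff.1 h1
  exact ⟨r, hr.symm⟩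

instance [Finite F] : Finite (ProjectiveSpecialLinearGroup (Fin n) F) :=
  inferInstanceAs (Finite (SpecialLinearGroup (Fin n) F ⧸ center (SpecialLinearGroup (Fin n) F)))

theorem index_toPSL [Finite F] {X : Type*} [Group X] {φ : X →* GL (Fin n) F}
    {h : ∀ x, Matrix.GeneralLinearGroup.det (φ x) = 1} (hi : ¬ 2 ∣ (toSL φ h).range.index) :
    ¬ 2 ∣ (toPSL φ h).range.index := by
  intro h2
  apply hi
  refine h2.trans ?_
  have h3 : (toPSL φ h).range = (toSL φ h).range.map (QuotientGroup.mk' _) := by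
    rw [toPSL, MonoidHom.range_comp]
  rw [h3]
  exact Subgroup.index_map_dvd _ (QuotientGroup.mk'_surjective _)

variable [Fintype F]

theorem card_SL_mul [NeZero n] : Nat.card (SpecialLinearGroup (Fin n) F) * (Fintype.card F - 1) = Nat.card (GL (Fin n) F) := by
  have h1 : Function.Surjective (Matrix.GeneralLinearGroup.det : GL (Fin n) F →* Fˣ) := by
    intro u
    refine ⟨dgGL n F (Function.update 1 0 u), ?_⟩
    apply Units.ext
    show (diagonal fun i => ((Function.update (1 : Fin n → Fˣ) 0 u i : Fˣ) : F)).det = (u : F)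
    rw [det_diagonal, ← Units.coe_prod, Finset.prod_update_of_mem (Finset.mem_univ _)]
    simp
  have h2 := (Matrix.GeneralLinearGroup.det : GL (Fin n) F →* Fˣ).ker.card_mul_index
  rw [Subgroup.index_ker, MonoidHom.range_eq_top.2 h1, Subgroup.card_top, Nat.card_units, Nat.card_eq_fintype_card (α := F)] at h2
  have h3 : Nat.card (Matrix.GeneralLinearGroup.det : GL (Fin n) F →* Fˣ).ker = Nat.card (SpecialLinearGroup (Fin n) F) := by
    have h4 : Function.Injective (Matrix.SpecialLinearGroup.toGL : SpecialLinearGroup (Fin n) F →* GL (Fin n) F) :=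
      fun a b hab => Subtype.ext (congrArg Units.val hab)
    have h5 : (Matrix.SpecialLinearGroup.toGL : SpecialLinearGroup (Fin n) F →* GL (Fin n) F).range =
        (Matrix.GeneralLinearGroup.det : GL (Fin n) F →* Fˣ).ker := by
      ext g
      constructor
      · rintro ⟨h, rfl⟩
        exact Units.ext h.2
      · intro hg
        exact ⟨⟨(g : Matrix (Fin n) (Fin n) F), congrArg Units.val hg⟩, Units.ext rfl⟩
    rw [← h5]
    exact (Nat.card_congr (MonoidHom.ofInjective h4).toEquiv).symm
  rw [← h3]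
  exact h2

theorem v_card_SL [NeZero n] : padicValNat 2 (Nat.card (SpecialLinearGroup (Fin n) F)) + padicValNat 2 (Fintype.card F - 1) =
    gv F n := by
  have h1 : 1 < Fintype.card F := Fintype.one_lt_card
  rw [gv, ← card_SL_mul, padicValNat.mul Nat.card_pos.ne' (by omega)]

/-- index of an injective homomorphism, by 2-parts -/
theorem index_of_v {X : Type*} {G : Type*} [Group X] [Group G] [Finite X] [Finite G] {ψ : X →* G}
    (hψ : Function.Injective ψ) (hv : padicValNat 2 (Nat.card X) = padicValNat 2 (Nat.card G)) :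
    ¬ 2 ∣ ψ.range.index := by
  intro h2
  have h1 := ψ.range.card_mul_index
  rw [← Nat.card_congr (MonoidHom.ofInjective hψ).toEquiv] at h1
  have h3 : ψ.range.index ≠ 0 := index_ne_zero_of_finite
  rw [← h1, padicValNat.mul Nat.card_pos.ne' h3] at hv
  have h4 := one_le_padicValNat_of_dvd h3 h2
  omega

end SL

end Cfsg.Agent.H83.K547
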