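import Cfsg.Agent.H821.K547.Defs
import Cfsg.Agent.S0113
import Cfsg.Agent.S0115
import Cfsg.Agent.Lib.FrattiniBasic

/-!
# S4547, rank tools (helper83)

* `DD n G` : the Sylow 2-subgroups of `G` map onto an elementary abelian group of order `2 ^ n` (`D3 = DD 3`);
* `rk_of_elem`, `rk_of_ab` : elementary abelian (quotients of) groups;
* `dd_of_sylow`, `dd_congr`;
* `dd_of_hom` : `φ : X →* G` with range of odd index, `f : X →* Y` onto, `ker φ ≤ ker f`, `DD n Y` : `DD n G`;
* `dd_three_of_elementary`, `dd_two_of_elementary` (T3) : squares of elements of the Sylow 2-subgroups of `G` in the derived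
  subgroup, `f : G →* Y` onto, `E ≤ Y` of exponent 2 of order more than 4 (2);
* `dd_prod` : products with an elementary abelian group.
-/

set_option autoImplicit false

namespace Cfsg.Agent.H83.K547

open Subgroup Cfsg Cfsg.Agent.H821.K547

universe u v w

/-- the Sylow 2-subgroups need at least `n` generators -/
def DD (n : ℕ) (G : Type u) [Group G] : Prop := ∀ Q : Sylow 2 G, Rk n Q

theorem d3_iff {G : Type u} [Group G] : D3 G ↔ DD 3 G := Iff.rfl

/-! ### `Rk` -/

section

variable {P : Type u} {Q : Type v} [Group P] [Group Q] {n m : ℕ}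

theorem rk_of_surj (f : P →* Q) (hf : Function.Surjective f) (h : Rk n Q) : Rk n P := by
  obtain ⟨g, hg⟩ := h
  exact ⟨g.comp f, hg.comp hf⟩

theorem rk_congr (e : P ≃* Q) (h : Rk n P) : Rk n Q := rk_of_surj e.symm.toMonoidHom e.symm.surjective h

end

theorem rk_of_elem {A : Type u} [CommGroup A] [Finite A] {n : ℕ} (h : ∀ a : A, a ^ 2 = 1)
    (hn : 2 ^ n ≤ Nat.card A) : Rk n A := by
  have hV : ∀ x : Additive A, 2 • x = 0 := fun x => congrArg Additive.ofMul (h x.toMul)
  let _ : Module (ZMod 2) (Additive A) := AddCommGroup.zmodModule hV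
  have hfin : Module.Finite (ZMod 2) (Additive A) := Module.Finite.of_finite
  have h1 : Nat.card (Additive A) = 2 ^ Module.finrank (ZMod 2) (Additive A) := by
    rw [Module.natCard_eq_pow_finrank (K := ZMod 2), Nat.card_zmod]
  have h2 : Nat.card (Additive A) = Nat.card A := rfl
  have h3 : n ≤ Module.finrank (ZMod 2) (Additive A) := by
    rw [← h2, h1] at hn
    exact (Nat.pow_le_pow_iff_right (by norm_num)).1 hn
  let b := Module.finBasis (ZMod 2) (Additive A)
  let L : Additive A →ₗ[ZMod 2] (Fin n → ZMod 2) :=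
    (LinearMap.funLeft (ZMod 2) (ZMod 2) (Fin.castLE h3)).comp b.equivFun.toLinearMap
  have hL : Function.Surjective L := by
    intro c
    obtain ⟨d, hd⟩ := LinearMap.funLeft_surjective_of_injective (ZMod 2) (ZMod 2) _ (Fin.castLE_injective h3) c
    obtain ⟨a, ha⟩ := b.equivFun.surjective d
    refine ⟨a, ?_⟩
    show LinearMap.funLeft (ZMod 2) (ZMod 2) (Fin.castLE h3) (b.equivFun a) = c
    rw [ha, hd]
  refine ⟨{ toFun := fun a => Multiplicative.ofAdd (L (Additive.ofMul a))
            map_one' := by rw [ofMul_one, map_zero, ofAdd_zero]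
            map_mul' := fun a c => by rw [ofMul_mul, map_add, ofAdd_add] }, ?_⟩
  intro c
  obtain ⟨a, ha⟩ := hL (Multiplicative.toAdd c)
  exact ⟨Additive.toMul a, congrArg Multiplicative.ofAdd ha⟩

theorem rk_of_ab {Q : Type u} [Group Q] [Finite Q] (h : ∀ x : Q, x ^ 2 ∈ commutator Q) {n : ℕ}
    (hn : 2 ^ n ≤ (commutator Q).index) : Rk n Q := by
  have h1 : Rk n (Abelianization Q) := by
    refine rk_of_elem ?_ hn
    intro a
    obtain ⟨x, rfl⟩ : ∃ x, Abelianization.of x = a := QuotientGroup.mk_surjective a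
    rw [← map_pow]
    exact (QuotientGroup.eq_one_iff _).2 (h x)
  exact rk_of_surj Abelianization.of (QuotientGroup.mk_surjective) h1

/-! ### 2-groups with elementary abelian commutator quotient -/

section TwoGroup

variable {Q : Type u} [Group Q] [Finite Q]

theorem isCyclic_of_index_le_two (hQ : IsPGroup 2 Q) (h : (commutator Q).index ≤ 2) : IsCyclic Q := by
  have : Fact (Nat.Prime 2) := ⟨Nat.prime_two⟩
  have hle := Cfsg.Agent.Lib.FrattiniBasic.commutator_le_frattini hQ
  have key : ∃ x : Q, zpowers x ⊔ commutator Q = ⊤ := by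
    by_cases h1 : commutator Q = ⊤
    · exact ⟨1, by rw [h1]; exact sup_top_eq _⟩
    · obtain ⟨x, hx⟩ : ∃ x, x ∉ commutator Q := by
        by_contra hcon
        push Not at hcon
        exact h1 (eq_top_iff.2 fun x _ => hcon x)
      refine ⟨x, ?_⟩
      by_contra h2
      have h3 : (zpowers x ⊔ commutator Q).index ≠ 1 := fun h4 => h2 (index_eq_one.1 h4)
      have h4 : (commutator Q).relIndex (zpowers x ⊔ commutator Q) ≠ 1 := by
        intro h5
        rw [relIndex_eq_one] at h5
        exact hx (h5 ((le_sup_left : zpowers x ≤ _) (mem_zpowers x)))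
      have h5 := relIndex_mul_index (le_sup_right : commutator Q ≤ zpowers x ⊔ commutator Q)
      have h6 : (zpowers x ⊔ commutator Q).index ≠ 0 := index_ne_zero_of_finite
      have h7 : (commutator Q).relIndex (zpowers x ⊔ commutator Q) ≠ 0 := by
        intro h8
        rw [h8, zero_mul] at h5
        exact index_ne_zero_of_finite h5.symm
      have h8 : 2 * 2 ≤ (commutator Q).relIndex (zpowers x ⊔ commutator Q) * (zpowers x ⊔ commutator Q).index :=
        Nat.mul_le_mul (by omega) (by omega)
      omega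
  obtain ⟨x, hx⟩ := key
  have h1 : zpowers x ⊔ frattini Q = ⊤ := top_le_iff.1 (hx ▸ sup_le_sup_left hle _)
  have h2 : zpowers x = ⊤ := frattini_nongenerating h1
  exact ⟨⟨x, fun y => by
    have : y ∈ zpowers x := by rw [h2]; exact mem_top y
    exact this⟩⟩

/-- few elements of order 2 -/
theorem card_le_of_cyclic {C E : Subgroup Q} (hC : IsCyclic C) (hE : ∀ x ∈ E, x ^ 2 = 1) :
    Nat.card E ≤ 2 * C.index := by
  have h1 : IsCyclic (C.subgroupOf E) := by
    let f : C.subgroupOf E →* C :=
      { toFun := fun x => ⟨((x : E) : Q), x.2⟩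
        map_one' := rfl
        map_mul' := fun _ _ => rfl }
    refine isCyclic_of_injective f ?_
    intro a b hab
    have h2 : ((a : E) : Q) = ((b : E) : Q) := congrArg (fun z : C => (z : Q)) hab
    exact Subtype.ext (Subtype.ext h2)
  obtain ⟨g, hg⟩ := h1
  have h2 : Nat.card (C.subgroupOf E) ≤ 2 := by
    rw [← orderOf_eq_card_of_forall_mem_zpowers hg]
    refine Nat.le_of_dvd (by norm_num) (orderOf_dvd_of_pow_eq_one ?_)
    exact Subtype.ext (Subtype.ext (hE _ (g : E).2))
  have h3 := (C.subgroupOf E).card_mul_index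
  have h4 : (C.subgroupOf E).index ≤ C.index := by
    have h5 : C.relIndex E ≤ C.relIndex ⊤ := relIndex_le_of_le_right le_top (by
      rw [relIndex_top_right]
      exact index_ne_zero_of_finite)
    rwa [relIndex_top_right] at h5
  calc Nat.card E = Nat.card (C.subgroupOf E) * (C.subgroupOf E).index := h3.symm
    _ ≤ 2 * C.index := Nat.mul_le_mul h2 h4

theorem rk_two (hQ : IsPGroup 2 Q) (h : ∀ x : Q, x ^ 2 ∈ commutator Q) {E : Subgroup Q} (hE : ∀ x ∈ E, x ^ 2 = 1)
    (hc : 2 < Nat.card E) : Rk 2 Q := by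
  have : Fact (Nat.Prime 2) := ⟨Nat.prime_two⟩
  refine rk_of_ab h ?_
  by_contra h1
  -- the index is a power of two
  obtain ⟨k, hk⟩ := hQ.index (commutator Q)
  have hk1 : k ≤ 1 := by
    by_contra h2
    apply h1
    rw [hk]
    exact Nat.pow_le_pow_right (by norm_num) (by omega)
  have h2 : (commutator Q).index ≤ 2 := by
    rw [hk]
    calc 2 ^ k ≤ 2 ^ 1 := Nat.pow_le_pow_right (by norm_num) hk1
      _ = 2 := pow_one 2
  have h3 := isCyclic_of_index_le_two hQ h2
  have h4 : IsCyclic (⊤ : Subgroup Q) := isCyclic_of_surjective topEquiv.symm.toMonoidHom topEquiv.symm.surjective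
  have h5 := card_le_of_cyclic h4 hE
  rw [index_top] at h5
  omega

theorem rk_three (hQ : IsPGroup 2 Q) (h : ∀ x : Q, x ^ 2 ∈ commutator Q) {E : Subgroup Q} (hE : ∀ x ∈ E, x ^ 2 = 1)
    (hc : 4 < Nat.card E) : Rk 3 Q := by
  have : Fact (Nat.Prime 2) := ⟨Nat.prime_two⟩
  refine rk_of_ab h ?_
  by_contra h1
  obtain ⟨k, hk⟩ := hQ.index (commutator Q)
  have hk2 : k ≤ 2 := by
    by_contra h2
    apply h1
    rw [hk]
    exact Nat.pow_le_pow_right (by norm_num) (by omega)
  rcases Nat.lt_or_ge k 2 with hk1 | hk1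
  · have h2 : (commutator Q).index ≤ 2 := by
      rw [hk]
      calc 2 ^ k ≤ 2 ^ 1 := Nat.pow_le_pow_right (by norm_num) (by omega)
        _ = 2 := pow_one 2
    have h3 := isCyclic_of_index_le_two hQ h2
    have h4 : IsCyclic (⊤ : Subgroup Q) := isCyclic_of_surjective topEquiv.symm.toMonoidHom topEquiv.symm.surjective
    have h5 := card_le_of_cyclic h4 hE
    rw [index_top] at h5
    omega
  · have hk' : (commutator Q).index = 4 := by
      rw [hk, le_antisymm hk2 hk1]
      norm_num
    obtain ⟨n, hn⟩ := IsPGroup.iff_card.1 hQ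
    have hn3 : 3 ≤ n := by
      by_contra h2
      have h3 : Nat.card E ≤ Nat.card Q := Nat.card_le_card_of_injective _ E.subtype_injective
      rw [hn] at h3
      have h4 : 2 ^ n ≤ 2 ^ 2 := Nat.pow_le_pow_right (by norm_num) (by omega)
      omega
    have h2 : IsKleinFour (Q ⧸ commutator Q) := by
      refine ⟨hk', ?_⟩
      have h3 : Monoid.exponent (Q ⧸ commutator Q) ∣ 2 := by
        rw [Monoid.exponent_dvd_iff_forall_pow_eq_one]
        intro a
        obtain ⟨x, rfl⟩ := QuotientGroup.mk_surjective a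
        rw [← QuotientGroup.mk_pow]
        exact (QuotientGroup.eq_one_iff _).2 (h x)
      rcases (Nat.dvd_prime Nat.prime_two).1 h3 with h4 | h4
      · exfalso
        have h5 : Subsingleton (Q ⧸ commutator Q) := Monoid.exp_eq_one_iff.1 h4
        have h6 : Nat.card (Q ⧸ commutator Q) = 1 := by
          rw [Nat.card_eq_one_iff_unique]
          exact ⟨h5, ⟨1⟩⟩
        have h7 : Nat.card (Q ⧸ commutator Q) = 4 := hk'
        omega
      · exact h4
    have h3 := (Cfsg.Agent.S0115.result n hn3 hn).2 h2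
    obtain ⟨C, hC, hi⟩ := Cfsg.Agent.S0113.result n hn3 hn h3
    have h5 := card_le_of_cyclic hC hE
    rw [hi] at h5
    omega

end TwoGroup

/-! ### `DD` -/

section DD

variable {G : Type u} {Y : Type v} [Group G] [Group Y] {n : ℕ}

theorem dd_of_sylow [Finite G] (Q : Sylow 2 G) (h : Rk n Q) : DD n G := by
  have : Fact (Nat.Prime 2) := ⟨Nat.prime_two⟩
  intro Q'
  exact rk_congr (Sylow.equiv Q Q') h

/-- squares in the derived subgroup, under onto homomorphisms -/
theorem sq_of_surj {P : Type u} {Q : Type v} [Group P] [Group Q] (f : P →* Q) (hf : Function.Surjective f)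
    (h : ∀ x : P, x ^ 2 ∈ commutator P) (y : Q) : y ^ 2 ∈ commutator Q := by
  obtain ⟨x, rfl⟩ := hf y
  rw [← map_pow]
  have h1 : (commutator P).map f ≤ commutator Q := by
    rw [commutator_def, commutator_def, map_commutator]
    exact commutator_mono le_top le_top
  exact h1 ⟨_, h x, rfl⟩

/-- the Sylow subgroup containing `E`, with squares in the derived subgroup -/
theorem exists_sylow_sq [Finite G] [Finite Y] (f : G →* Y) (hf : Function.Surjective f)
    (h : ∀ (P : Sylow 2 G) (x : P), x ^ 2 ∈ commutator P) {E : Subgroup Y} (hE : ∀ x ∈ E, x ^ 2 = 1) :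
    ∃ Q : Sylow 2 Y, E ≤ Q ∧ ∀ x : Q, x ^ 2 ∈ commutator Q := by
  have : Fact (Nat.Prime 2) := ⟨Nat.prime_two⟩
  have hEp : IsPGroup 2 E := fun x => ⟨1, by
    apply Subtype.ext
    rw [pow_one]
    exact hE _ x.2⟩
  obtain ⟨Q, hQ⟩ := hEp.exists_le_sylow
  refine ⟨Q, hQ, ?_⟩
  obtain ⟨P⟩ : Nonempty (Sylow 2 G) := inferInstance
  let Q' : Sylow 2 Y := P.mapSurjective hf
  have h1 : ∀ x : Q', x ^ 2 ∈ commutator Q' :=
    sq_of_surj (P := P) (Q := ((P : Subgroup G).map f)) (f.subgroupMap (P : Subgroup G))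
      (f.subgroupMap_surjective _) (h P)
  exact sq_of_surj (Sylow.equiv Q' Q).toMonoidHom (Sylow.equiv Q' Q).surjective h1

theorem card_subgroupOf_eq {E Q : Subgroup Y} (h : E ≤ Q) : Nat.card (E.subgroupOf Q) = Nat.card E :=
  Nat.card_congr (subgroupOfEquivOfLe h).toEquiv

theorem dd_three_of_elementary [Finite G] [Finite Y] (f : G →* Y) (hf : Function.Surjective f)
    (h : ∀ (P : Sylow 2 G) (x : P), x ^ 2 ∈ commutator P) {E : Subgroup Y} (hE : ∀ x ∈ E, x ^ 2 = 1)
    (hc : 4 < Nat.card E) : DD 3 Y := by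
  obtain ⟨Q, hEQ, h1⟩ := exists_sylow_sq f hf h hE
  refine dd_of_sylow Q (rk_three Q.2 h1 (E := E.subgroupOf Q) ?_ ?_)
  · intro x hx
    exact Subtype.ext (hE _ (mem_subgroupOf.1 hx))
  · rwa [card_subgroupOf_eq hEQ]

theorem dd_two_of_elementary [Finite G] [Finite Y] (f : G →* Y) (hf : Function.Surjective f)
    (h : ∀ (P : Sylow 2 G) (x : P), x ^ 2 ∈ commutator P) {E : Subgroup Y} (hE : ∀ x ∈ E, x ^ 2 = 1)
    (hc : 2 < Nat.card E) : DD 2 Y := by
  obtain ⟨Q, hEQ, h1⟩ := exists_sylow_sq f hf h hE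
  refine dd_of_sylow Q (rk_two Q.2 h1 (E := E.subgroupOf Q) ?_ ?_)
  · intro x hx
    exact Subtype.ext (hE _ (mem_subgroupOf.1 hx))
  · rwa [card_subgroupOf_eq hEQ]

/-- homomorphisms with range of odd index -/
theorem dd_of_hom {X : Type w} [Group X] [Finite X] [Finite G] [Finite Y] (φ : X →* G) (hi : ¬ 2 ∣ φ.range.index)
    (f : X →* Y) (hf : Function.Surjective f) (hk : ∀ x, φ x = 1 → f x = 1) (h : DD n Y) : DD n G := by
  have : Fact (Nat.Prime 2) := ⟨Nat.prime_two⟩
  obtain ⟨P⟩ : Nonempty (Sylow 2 X) := inferInstance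
  set H : Subgroup G := (P : Subgroup X).map φ with hH
  have hcard : Nat.card H = 2 ^ (Nat.card G).factorization 2 := by
    let PM : Sylow 2 φ.range := P.mapSurjective φ.rangeRestrict_surjective
    have h1 : H = (PM : Subgroup φ.range).map φ.range.subtype := by
      show _ = ((P : Subgroup X).map φ.rangeRestrict).map φ.range.subtype
      rw [map_map, hH]
      congr 1
    rw [h1, Subgroup.card_map_of_injective φ.range.subtype_injective, PM.card_eq_multiplicity]
    congr 1
    rw [← φ.range.card_mul_index, Nat.factorization_mul Nat.card_pos.ne' index_ne_zero_of_finite, Finsupp.add_apply,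
      Nat.factorization_eq_zero_of_not_dvd hi, add_zero]
  let Q : Sylow 2 G := Sylow.ofCard H hcard
  refine dd_of_sylow Q ?_
  obtain ⟨g, hg⟩ := h (P.mapSurjective hf)
  let g0 : ((P : Subgroup X).map f) →* Multiplicative (Fin n → ZMod 2) := g
  let g' : P →* Multiplicative (Fin n → ZMod 2) := g0.comp (f.subgroupMap (P : Subgroup X))
  have hg' : Function.Surjective g' := by
    have h1 : Function.Surjective g0 := hg
    exact h1.comp (f.subgroupMap_surjective _)
  let p : P →* H := φ.subgroupMap (P : Subgroup X)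
  have hp : Function.Surjective p := φ.subgroupMap_surjective _
  have hker : p.ker ≤ g'.ker := by
    intro x hx
    have h1 : φ (x : X) = 1 := congrArg Subtype.val (MonoidHom.mem_ker.1 hx)
    have h2 : f.subgroupMap (P : Subgroup X) x = 1 := Subtype.ext (hk _ h1)
    show g0 _ = 1
    rw [h2, map_one]
  let k : H →* Multiplicative (Fin n → ZMod 2) := p.liftOfSurjective hp ⟨g', hker⟩
  refine ⟨k, fun c => ?_⟩
  obtain ⟨x, hx⟩ := hg' c
  refine ⟨p x, ?_⟩
  rw [← hx]
  exact p.liftOfRightInverse_comp_apply _ _ ⟨g', hker⟩ x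

theorem dd_congr [Finite G] (e : G ≃* Y) (h : DD n G) : DD n Y := by
  have : Finite Y := Finite.of_equiv G e.toEquiv
  refine dd_of_hom (X := Y) (MonoidHom.id Y) ?_ e.symm.toMonoidHom e.symm.surjective ?_ h
  · rw [show (MonoidHom.id Y).range = ⊤ from MonoidHom.range_eq_top.2 Function.surjective_id, index_top]
    norm_num
  · intro x hx
    have h1 : x = 1 := hx
    rw [h1, map_one]

/-- 2-groups -/
theorem dd_of_rk [Finite G] (hG : IsPGroup 2 G) (h : Rk n G) : DD n G := by
  have : Fact (Nat.Prime 2) := ⟨Nat.prime_two⟩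
  intro Q
  have h1 : (Q : Subgroup G) = ⊤ := by
    have h2 : IsPGroup 2 (⊤ : Subgroup G) := hG.to_subgroup ⊤
    exact (Q.3 h2 le_top).symm
  refine rk_congr ?_ h
  exact topEquiv.symm.trans (MulEquiv.subgroupCongr h1.symm)

/-- products with an elementary abelian group -/
theorem dd_prod [Finite Y] (h : DD n Y) {C : Type w} [CommGroup C] [Finite C] (hC : ∀ c : C, c ^ 2 = 1) {m : ℕ}
    (hm : 2 ^ m ≤ Nat.card C) : DD (n + m) (Y × C) := by
  have : Fact (Nat.Prime 2) := ⟨Nat.prime_two⟩
  obtain ⟨Q⟩ : Nonempty (Sylow 2 Y) := inferInstance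
  obtain ⟨g, hg⟩ := h Q
  have hCp : IsPGroup 2 C := fun c => ⟨1, by rw [pow_one]; exact hC c⟩
  have hrk : Rk (n + m) (Q × C) := by
    have h1 : Rk (n + m) (Multiplicative (Fin n → ZMod 2) × C) := by
      refine rk_of_elem ?_ ?_
      · rintro ⟨a, c⟩
        refine Prod.ext ?_ (hC c)
        show a ^ 2 = 1
        have h2 : (2 : ℕ) • (Multiplicative.toAdd a) = 0 := by
          funext i
          show (2 : ℕ) • (Multiplicative.toAdd a i) = 0
          rw [nsmul_eq_mul]
          have h3 : ((2 : ℕ) : ZMod 2) = 0 := ZMod.natCast_self 2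
          rw [h3, zero_mul]
        exact congrArg Multiplicative.ofAdd h2
      · rw [Nat.card_prod, pow_add]
        have h2 : Nat.card (Multiplicative (Fin n → ZMod 2)) = 2 ^ n := by
          show Nat.card (Fin n → ZMod 2) = 2 ^ n
          rw [Nat.card_fun, Nat.card_zmod, Nat.card_fin]
        rw [h2]
        exact Nat.mul_le_mul_left _ hm
    refine rk_of_surj (g.prodMap (MonoidHom.id C)) ?_ h1
    exact hg.prodMap Function.surjective_id
  have hp : IsPGroup 2 (Q × C) := by
    rw [IsPGroup.iff_card]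
    obtain ⟨a, ha⟩ := IsPGroup.iff_card.1 Q.2
    obtain ⟨b, hb⟩ := IsPGroup.iff_card.1 hCp
    exact ⟨a + b, by rw [Nat.card_prod, pow_add]; exact congrArg₂ _ ha hb⟩
  refine dd_of_hom (X := Q × C) ((Q : Subgroup Y).subtype.prodMap (MonoidHom.id C)) ?_ (MonoidHom.id _)
    Function.surjective_id ?_ (dd_of_rk hp hrk)
  · have h1 : Function.Injective ((Q : Subgroup Y).subtype.prodMap (MonoidHom.id C)) :=
      (Q : Subgroup Y).subtype_injective.prodMap Function.injective_id
    have h2 := ((Q : Subgroup Y).subtype.prodMap (MonoidHom.id C)).range.card_mul_index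
    rw [← Nat.card_congr (MonoidHom.ofInjective h1).toEquiv, Nat.card_prod, Nat.card_prod] at h2
    have h3 := (Q : Subgroup Y).card_mul_index
    have h4 : ((Q : Subgroup Y).subtype.prodMap (MonoidHom.id C)).range.index = (Q : Subgroup Y).index := by
      have h5 : 0 < Nat.card (Q : Subgroup Y) * Nat.card C := Nat.mul_pos Nat.card_pos Nat.card_pos
      have h6 : Nat.card (Q : Subgroup Y) * Nat.card C * ((Q : Subgroup Y).subtype.prodMap (MonoidHom.id C)).range.index =
          Nat.card (Q : Subgroup Y) * Nat.card C * (Q : Subgroup Y).index := by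
        refine h2.trans ?_
        rw [← h3]
        ring
      exact Nat.eq_of_mul_eq_mul_left h5 h6
    rw [h4]
    exact Q.not_dvd_index
  · rintro ⟨a, c⟩ hx
    have h1 : (a : Y) = 1 := congrArg Prod.fst hx
    have h2 : c = 1 := congrArg Prod.snd hx
    exact Prod.ext (Subtype.ext h1) h2

end DD

/-! ### Elementary abelian subgroups -/

section Elem

variable {Y : Type u} [Group Y]

theorem closure_sq {S : Set Y} (hc : ∀ x ∈ S, ∀ y ∈ S, x * y = y * x) (h2 : ∀ x ∈ S, x ^ 2 = 1) :
    ∀ x ∈ closure S, x ^ 2 = 1 := by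
  have h1 : ∀ x ∈ closure S, ∀ y ∈ closure S, x * y = y * x := by
    have h3 : ∀ x ∈ S, ∀ y ∈ closure S, x * y = y * x := by
      intro x hx y hy
      have h4 : closure S ≤ centralizer {x} := by
        rw [closure_le]
        intro z hz
        rw [SetLike.mem_coe, mem_centralizer_singleton_iff]
        exact (hc x hx z hz).symm
      exact (mem_centralizer_singleton_iff.1 (h4 hy)).symm
    intro x hx y hy
    have h4 : closure S ≤ centralizer {y} := by
      rw [closure_le]
      intro z hz
      rw [SetLike.mem_coe, mem_centralizer_singleton_iff]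
      exact h3 z hz y hy
    exact mem_centralizer_singleton_iff.1 (h4 hx)
  intro x hx
  induction hx using closure_induction with
  | mem x hx => exact h2 x hx
  | one => exact one_pow 2
  | mul x y hx hy ihx ihy =>
    have h3 : Commute x y := h1 x hx y hy
    rw [h3.mul_pow, ihx, ihy, mul_one]
  | inv x hx ih => rw [inv_pow, ih, inv_one]

theorem exists_E_three [Finite Y] {a b c : Y} (ha : a ^ 2 = 1) (hb : b ^ 2 = 1) (hc : c ^ 2 = 1) (hab : a * b = b * a)
    (hac : a * c = c * a) (hbc : b * c = c * b) (h1 : a ≠ 1) (h2 : b ≠ 1) (h3 : a ≠ b) (h4 : c ≠ 1) (h5 : c ≠ a)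
    (h6 : c ≠ b) (h7 : c ≠ a * b) : ∃ E : Subgroup Y, (∀ x ∈ E, x ^ 2 = 1) ∧ 4 < Nat.card E := by
  refine ⟨closure {a, b, c}, closure_sq ?_ ?_, ?_⟩
  · rintro x (rfl | rfl | rfl) y (rfl | rfl | rfl) <;> first | rfl | assumption | exact hab.symm | exact hac.symm | exact hbc.symm
  · rintro x (rfl | rfl | rfl) <;> assumption
  · have haE : a ∈ closure {a, b, c} := subset_closure (by simp)
    have hbE : b ∈ closure {a, b, c} := subset_closure (by simp)
    have hcE : c ∈ closure {a, b, c} := subset_closure (by simp)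
    have h8 : a * b ≠ 1 := by
      intro h
      apply h3
      have h9 : a * a = 1 := by rwa [pow_two] at ha
      exact mul_left_cancel (h9.trans h.symm)
    have h9 : a * b ≠ a := fun h => h2 (mul_eq_left.1 h)
    have h10 : a * b ≠ b := fun h => h1 (mul_eq_right.1 h)
    let f : Fin 5 → closure {a, b, c} := ![1, ⟨a, haE⟩, ⟨b, hbE⟩, ⟨a * b, mul_mem haE hbE⟩, ⟨c, hcE⟩]
    have hf : Function.Injective f := by
      intro i j hij
      have h11 : ((f i : closure {a, b, c}) : Y) = f j := congrArg Subtype.val hij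
      fin_cases i <;> fin_cases j <;> first | rfl | (exfalso; revert h11) <;>
        first | exact h1 | exact h2 | exact h3 | exact h4 | exact h5 | exact h6 | exact h7 | exact h8 | exact h9 |
          exact h10 | exact h1.symm | exact h2.symm | exact h3.symm | exact h4.symm | exact h5.symm | exact h6.symm |
          exact h7.symm | exact h8.symm | exact h9.symm | exact h10.symm
    have h11 := Nat.card_le_card_of_injective f hf
    rw [Nat.card_fin] at h11
    omega

theorem exists_E_two [Finite Y] {a b : Y} (ha : a ^ 2 = 1) (hb : b ^ 2 = 1) (hab : a * b = b * a) (h1 : a ≠ 1) (h2 : b ≠ 1)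
    (h3 : a ≠ b) : ∃ E : Subgroup Y, (∀ x ∈ E, x ^ 2 = 1) ∧ 2 < Nat.card E := by
  refine ⟨closure {a, b}, closure_sq ?_ ?_, ?_⟩
  · rintro x (rfl | rfl) y (rfl | rfl) <;> first | rfl | assumption | exact hab.symm
  · rintro x (rfl | rfl) <;> assumption
  · have haE : a ∈ closure {a, b} := subset_closure (by simp)
    have hbE : b ∈ closure {a, b} := subset_closure (by simp)
    let f : Fin 3 → closure {a, b} := ![1, ⟨a, haE⟩, ⟨b, hbE⟩]
    have hf : Function.Injective f := by
      intro i j hij
      have h11 : ((f i : closure {a, b}) : Y) = f j := congrArg Subtype.val hij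
      fin_cases i <;> fin_cases j <;> first | rfl | (exfalso; revert h11) <;>
        first | exact h1 | exact h2 | exact h3 | exact h1.symm | exact h2.symm | exact h3.symm
    have h11 := Nat.card_le_card_of_injective f hf
    rw [Nat.card_fin] at h11
    omega

end Elem

end Cfsg.Agent.H83.K547
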